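-- Team project CHO (S1082/S1083, helper99): package [NONAB-B2] (helper97).
import Cfsg.Agent.Lib.Helper99.CHO.Defs

set_option autoImplicit false

namespace Cfsg.Agent.Lib.Helper97.CHO

open Cfsg.Agent.Lib.Helper99.CHO Matrix

universe u

/-- the integer root element `E_r(1)` of type B2 -/
def ezB2 (r : ℕ) : Matrix (Unit ⊕ (Fin 2 ⊕ Fin 2)) (Unit ⊕ (Fin 2 ⊕ Fin 2)) ℤ :=
  1 + (Matrix.of fun i j => tab3 nListB2 r (ix5 i) (ix5 j))
    + Matrix.of fun i j => tab3 mListB2 r (ix5 i) (ix5 j)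

theorem EB2mat_one_eq (K : Type u) [Field K] (r : ℕ) :
    EB2mat K r 1 = (ezB2 r).map (Int.castRingHom K) := by
  ext i j
  simp [EB2mat, NB2, MB2, ezB2, Matrix.one_apply, apply_ite]

theorem ezB2_entry1 :
    (ezB2 0 * ezB2 5) (Sum.inl ()) (Sum.inr (Sum.inl 0)) = 0 := by
  simp only [Matrix.mul_apply, Fintype.sum_sum_type, Fin.sum_univ_two, Finset.univ_unique,
    Finset.sum_singleton]
  decide

theorem ezB2_entry2 :
    (ezB2 5 * ezB2 0) (Sum.inl ()) (Sum.inr (Sum.inl 0)) = -1 := by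
  simp only [Matrix.mul_apply, Fintype.sum_sum_type, Fin.sum_univ_two, Finset.univ_unique,
    Finset.sum_singleton]
  decide

theorem pkgNonabB2 : PkgNonabB2.{u} := by
  intro K _
  refine ⟨0, 5, 1, 1, by norm_num, by norm_num, ?_⟩
  intro h
  rw [EB2mat_one_eq, EB2mat_one_eq, ← Matrix.map_mul, ← Matrix.map_mul] at h
  have h2 := congrFun (congrFun h (Sum.inl ())) (Sum.inr (Sum.inl 0))
  rw [Matrix.map_apply, Matrix.map_apply, ezB2_entry1, ezB2_entry2] at h2
  simp at h2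

end Cfsg.Agent.Lib.Helper97.CHO
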