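-- Team project CHO (S1082/S1083, helper99): package [NONAB-D4] (helper97).
import Cfsg.Agent.Lib.Helper99.CHO.Defs

set_option autoImplicit false

namespace Cfsg.Agent.Lib.Helper97.CHO

open Cfsg.Agent.Lib.Helper99.CHO Matrix

universe u

/-- the integer root element `E_r(1)` of type D4 -/
def ezD4 (r : ℕ) : Matrix (Fin 4 ⊕ Fin 4) (Fin 4 ⊕ Fin 4) ℤ :=
  1 + Matrix.of fun i j => tab3 nListD4 r (ix8 i) (ix8 j)

theorem ED4mat_one_eq (K : Type u) [Field K] (r : ℕ) :
    ED4mat K r 1 = (ezD4 r).map (Int.castRingHom K) := by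
  ext i j
  simp [ED4mat, ND4, ezD4, Matrix.one_apply, apply_ite]

theorem ezD4_entry1 : (ezD4 0 * ezD4 14) (Sum.inr 0) (Sum.inl 2) = -1 := by
  simp only [Matrix.mul_apply, Fintype.sum_sum_type, Fin.sum_univ_four]
  decide

theorem ezD4_entry2 : (ezD4 14 * ezD4 0) (Sum.inr 0) (Sum.inl 2) = 0 := by
  simp only [Matrix.mul_apply, Fintype.sum_sum_type, Fin.sum_univ_four]
  decide

theorem pkgNonabD4 : PkgNonabD4.{u} := by
  intro K _
  refine ⟨0, 14, 1, 1, by norm_num, by norm_num, ?_⟩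
  intro h
  rw [ED4mat_one_eq, ED4mat_one_eq, ← Matrix.map_mul, ← Matrix.map_mul] at h
  have h2 := congrFun (congrFun h (Sum.inr 0)) (Sum.inl 2)
  rw [Matrix.map_apply, Matrix.map_apply, ezD4_entry1, ezD4_entry2] at h2
  simp at h2

end Cfsg.Agent.Lib.Helper97.CHO
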